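import Groth.Agent.CILib.RelGCI
import Groth.Agent.FPModelLib.ZModel
import Groth.Agent.FlatStage.Main
import Groth.Agent.FlatStage.Smooth
import Groth.Agent.FPModelLib.BaseId
import Groth.Agent.TildeFinLib.Basic
import Groth.Agent.TildePullback.Basic
import Groth.Agent.S2720
import Groth.Agent.ShStabLib.Noeth

/-!
# Noetherian models of finitely presented modules on affine schemes
-/

set_option autoImplicit false
set_option linter.style.haveILetI false
set_option backward.isDefEq.respectTransparency false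
set_option backward.isDefEq.respectTransparency.types false
set_option maxHeartbeats 1000000
set_option synthInstance.maxHeartbeats 100000

universe u

open CategoryTheory CategoryTheory.Limits AlgebraicGeometry TensorProduct MvPolynomial Groth.Agent.CILib

noncomputable section

namespace Groth.Agent.NApproxMod

/-- A quotient of a free module by finitely many elements base changes to the same presentation. -/
theorem exists_model_quot {C₀ C : Type u} [CommRing C₀] [CommRing C] [Algebra C₀ C] {a b : ℕ}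
    (v₀ : Fin a → Fin b → C₀) (M : Type u) [AddCommGroup M] [Module C M]
    (p : (Fin b → C) →ₗ[C] M) (hp : Function.Surjective p)
    (hk : LinearMap.ker p = Submodule.span C (Set.range fun j i => algebraMap C₀ C (v₀ j i))) :
    Nonempty (C ⊗[C₀] ((Fin b → C₀) ⧸ Submodule.span C₀ (Set.range v₀)) ≃ₗ[C] M) := by
  classical
  let K₀ := Submodule.span C₀ (Set.range v₀)
  letI : Module C₀ M := Module.compHom M (algebraMap C₀ C)
  haveI : IsScalarTower C₀ C M := IsScalarTower.of_algebraMap_smul fun _ _ => rfl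
  let incl : (Fin b → C₀) →ₗ[C₀] (Fin b → C) :=
    { toFun := fun x i => algebraMap C₀ C (x i)
      map_add' := fun x y => funext fun i => map_add _ _ _
      map_smul' := fun r x => funext fun i => by simp [Algebra.smul_def] }
  let h : ((Fin b → C₀) ⧸ K₀) →ₗ[C₀] M := Submodule.liftQ K₀ ((p.restrictScalars C₀).comp incl) (by
    rw [Submodule.span_le]
    rintro _ ⟨j, rfl⟩
    change p (incl (v₀ j)) = 0
    exact LinearMap.mem_ker.1 (hk ▸ Submodule.subset_span ⟨j, rfl⟩))
  let q : (Fin b → C) →ₗ[C] C ⊗[C₀] ((Fin b → C₀) ⧸ K₀) :=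
    (Pi.basisFun C (Fin b)).constr C fun i => (1 : C) ⊗ₜ Submodule.Quotient.mk (Pi.single i 1)
  have hq : ∀ x : Fin b → C₀, q (incl x) = (1 : C) ⊗ₜ Submodule.Quotient.mk x := by
    intro x
    rw [pi_eq_sum_univ' x]
    simp only [← Submodule.mkQ_apply, map_sum, TensorProduct.tmul_sum]
    refine Finset.sum_congr rfl fun i _ => ?_
    have e1 : incl (x i • Pi.single i 1) = algebraMap C₀ C (x i) • Pi.basisFun C (Fin b) i := by
      funext k
      rw [Pi.basisFun_apply]
      by_cases hk : k = i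
      · subst hk; simp [incl, Algebra.algebraMap_eq_smul_one]
      · simp [incl, hk]
    rw [e1, map_smul, Module.Basis.constr_basis, algebraMap_smul, map_smul, Submodule.mkQ_apply,
      TensorProduct.tmul_smul]
  let h' : C ⊗[C₀] ((Fin b → C₀) ⧸ K₀) →ₗ[C] M := LinearMap.liftBaseChange C h
  have hcomp : h'.comp q = p := by
    refine (Pi.basisFun C (Fin b)).ext fun i => ?_
    rw [LinearMap.comp_apply, Module.Basis.constr_basis, LinearMap.liftBaseChange_tmul, one_smul]
    change p (incl (Pi.single i 1)) = _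
    congr 1
    funext k
    rw [Pi.basisFun_apply]
    by_cases hk : k = i
    · subst hk; simp [incl]
    · simp [incl, hk]
  have hqs : Function.Surjective q := by
    intro z
    induction z using TensorProduct.induction_on with
    | zero => exact ⟨0, map_zero _⟩
    | tmul s m =>
      obtain ⟨x, rfl⟩ := Submodule.Quotient.mk_surjective _ m
      exact ⟨s • incl x, by rw [map_smul, hq, TensorProduct.smul_tmul', smul_eq_mul, mul_one]⟩
    | add x y hx hy =>
      obtain ⟨x', rfl⟩ := hx
      obtain ⟨y', rfl⟩ := hy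
      exact ⟨x' + y', map_add _ _ _⟩
  refine ⟨LinearEquiv.ofBijective h' ⟨(injective_iff_map_eq_zero _).2 fun z hz => ?_, fun m => ?_⟩⟩
  · obtain ⟨y, rfl⟩ := hqs z
    have hy : y ∈ LinearMap.ker p := by rw [LinearMap.mem_ker, ← hcomp]; exact hz
    rw [hk] at hy
    have : Submodule.span C (Set.range fun j i => algebraMap C₀ C (v₀ j i)) ≤ LinearMap.ker q := by
      rw [Submodule.span_le]
      rintro _ ⟨j, rfl⟩
      change q (incl (v₀ j)) = 0
      rw [hq, (Submodule.Quotient.mk_eq_zero K₀).2 (Submodule.subset_span ⟨j, rfl⟩), TensorProduct.tmul_zero]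
    exact this hy
  · obtain ⟨y, rfl⟩ := hp m
    exact ⟨q y, LinearMap.congr_fun hcomp y⟩

/-- The pullback square of a base changed presentation. -/
theorem isPullback_baseChange {R₀ : Type u} [CommRing R₀] (R : Type u) [CommRing R] [Algebra R₀ R] {n c : ℕ}
    (F₀ : Fin c → MvPolynomial (Fin n) R₀) :
    IsPullback
      (Spec.map (CommRingCat.ofHom ((baseChangeEquiv R F₀).toRingHom.comp
        (Algebra.TensorProduct.includeRight (R := R₀) (A := R) (B := Synt.RelGCIRing R₀ n c F₀)).toRingHom)))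
      (Spec.map (CommRingCat.ofHom (algebraMap R (Synt.RelGCIRing R n c (mapF R F₀)))))
      (Spec.map (CommRingCat.ofHom (algebraMap R₀ (Synt.RelGCIRing R₀ n c F₀))))
      (Spec.map (CommRingCat.ofHom (algebraMap R₀ R))) := by
  let T := TensorProduct R₀ R (Synt.RelGCIRing R₀ n c F₀)
  let ε : CommRingCat.of T ≅ CommRingCat.of (Synt.RelGCIRing R n c (mapF R F₀)) :=
    (baseChangeEquiv R F₀).toRingEquiv.toCommRingCatIso
  have hT := (isPullback_SpecMap_of_isPushout _ _ _ _
    (CommRingCat.isPushout_tensorProduct R₀ R (Synt.RelGCIRing R₀ n c F₀))).flip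
  refine hT.of_iso (asIso (Spec.map ε.hom)).symm (Iso.refl _) (Iso.refl _) (Iso.refl _) ?_ ?_ (by simp) (by simp)
  · rw [Iso.symm_hom, asIso_inv, Iso.refl_hom, Category.comp_id, IsIso.eq_inv_comp, ← Spec.map_comp]
    rfl
  · rw [Iso.symm_hom, asIso_inv, Iso.refl_hom, Category.comp_id, IsIso.eq_inv_comp, ← Spec.map_comp]
    exact congrArg Spec.map (CommRingCat.hom_ext (RingHom.ext fun r => (baseChangeEquiv R F₀).commutes r))

theorem of_lift (A : CommRingCat.{u}) (R₁ : Type u) [CommRing R₁] [Algebra R₁ A] [IsNoetherianRing R₁] {n c : ℕ}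
    (F₁ : Fin c → MvPolynomial (Fin n) R₁)
    (F : Fin c → MvPolynomial (Fin n) A) (hF : mapF A F₁ = F)
    (M : ModuleCat.{u} (CommRingCat.of (Synt.RelGCIRing A n c F))) {a b : ℕ}
    {K : Submodule (Synt.RelGCIRing A n c F) (Fin b → Synt.RelGCIRing A n c F)}
    (e : M ≃ₗ[Synt.RelGCIRing A n c F] (Fin b → Synt.RelGCIRing A n c F) ⧸ K)
    (v : Fin a → Fin b → Synt.RelGCIRing A n c F) (hv : Submodule.span _ (Set.range v) = K)
    (P₁ : Fin a → Fin b → MvPolynomial (Fin n) R₁)
    (hP₁ : ∀ j i, Ideal.Quotient.mk _ (MvPolynomial.map (algebraMap R₁ A) (P₁ j i)) = v j i) :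
    ∃ (C₀ : CommRingCat.{u}) (a : Spec C₀ ⟶ Spec (CommRingCat.of R₁))
      (ι : C₀ ⟶ CommRingCat.of (Synt.RelGCIRing A n c F)) (M₁ : ModuleCat.{u} C₀),
      IsNoetherianRing C₀ ∧ LocallyOfFinitePresentation a ∧ Module.Finite C₀ M₁ ∧
      IsPullback (Spec.map ι) (Spec.map (CommRingCat.ofHom (algebraMap A (Synt.RelGCIRing A n c F)))) a
        (Spec.map (CommRingCat.ofHom (algebraMap R₁ A))) ∧
      Nonempty ((ModuleCat.extendScalars.{u, u, u} ι.hom).obj M₁ ≅ M) := by
  classical
  subst hF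
  let C := Synt.RelGCIRing A n c (mapF A F₁)
  let C₀ := Synt.RelGCIRing R₁ n c F₁
  let ι : C₀ →+* C := (baseChangeEquiv A F₁).toRingHom.comp (Algebra.TensorProduct.includeRight (R := R₁) (A := A) (B := C₀)).toRingHom
  letI : Algebra C₀ C := ι.toAlgebra
  have hι : ∀ Q, ι (Ideal.Quotient.mk _ Q) = Ideal.Quotient.mk _ (MvPolynomial.map (algebraMap R₁ A) Q) := by
    intro Q
    change baseChangeEquiv A F₁ ((1 : A) ⊗ₜ[R₁] (Ideal.Quotient.mk _ Q : C₀)) = _
    simp only [baseChangeEquiv, AlgEquiv.trans_apply]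
    erw [Algebra.TensorProduct.tensorQuotientEquiv_apply_tmul]
    rw [Ideal.quotientEquivAlg_mk, MvPolynomial.algebraTensorAlgEquiv_tmul, one_smul]
  let v₀ : Fin a → Fin b → C₀ := fun j i => Ideal.Quotient.mk _ (P₁ j i)
  have hv₀ : (fun j i => algebraMap C₀ C (v₀ j i)) = v := funext fun j => funext fun i =>
    (hι _).trans (hP₁ j i)
  haveI : Algebra.FinitePresentation R₁ C₀ :=
    Algebra.FinitePresentation.quotient ⟨Finset.univ.image F₁, by rw [Finset.coe_image, Finset.coe_univ, Set.image_univ]⟩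
  obtain ⟨φ⟩ := exists_model_quot v₀ M (e.symm.toLinearMap.comp K.mkQ)
    (e.symm.surjective.comp K.mkQ_surjective) (by
      rw [LinearEquiv.ker_comp, Submodule.ker_mkQ, ← hv, hv₀])
  refine ⟨CommRingCat.of C₀, Spec.map (CommRingCat.ofHom (algebraMap R₁ C₀)),
    CommRingCat.ofHom ι, ModuleCat.of C₀ ((Fin b → C₀) ⧸ Submodule.span C₀ (Set.range v₀)),
    Algebra.FiniteType.isNoetherianRing R₁ C₀, ?_, inferInstanceAs (Module.Finite C₀ _), ?_, ⟨φ.toModuleIso⟩⟩
  · rw [HasRingHomProperty.Spec_iff (P := @LocallyOfFinitePresentation)]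
    exact RingHom.finitePresentation_algebraMap.2 inferInstance
  · exact isPullback_baseChange A F₁


/-- A finitely presented module over a finitely presented algebra has a model over a finitely
generated subring of coefficients. -/
theorem exists_algebraic_model (A : CommRingCat.{u}) {n c : ℕ} (F : Fin c → MvPolynomial (Fin n) A)
    (M : ModuleCat.{u} (CommRingCat.of (Synt.RelGCIRing A n c F)))
    [Module.FinitePresentation (CommRingCat.of (Synt.RelGCIRing A n c F)) M] :
    ∃ (i : (FPModelLib.ZIdx A)ᵒᵖ) (C₀ : CommRingCat.{u}) (a : Spec C₀ ⟶ (FPModelLib.zSys A).obj i)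
      (ι : C₀ ⟶ CommRingCat.of (Synt.RelGCIRing A n c F)) (M₁ : ModuleCat.{u} C₀),
      IsNoetherianRing C₀ ∧ LocallyOfFinitePresentation a ∧ Module.Finite C₀ M₁ ∧
      IsPullback (Spec.map ι) (Spec.map (CommRingCat.ofHom (algebraMap A (Synt.RelGCIRing A n c F)))) a
        ((FPModelLib.zCone A).π.app i) ∧
      Nonempty ((ModuleCat.extendScalars.{u, u, u} ι.hom).obj M₁ ≅ M) := by
  classical
  let C := Synt.RelGCIRing A n c F
  haveI : Module.FinitePresentation C M := ‹_›
  obtain ⟨b, K, e, hK⟩ := Module.FinitePresentation.exists_fin C M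
  obtain ⟨a, v, hv⟩ := Submodule.fg_iff_exists_fin_generating_family.1 hK
  choose P hP using fun (j : Fin a) (i : Fin b) => Ideal.Quotient.mk_surjective (v j i)
  let T : Finset A := (Finset.univ.biUnion fun l => (F l).coeffs) ∪
    Finset.univ.biUnion fun ji : Fin a × Fin b => (P ji.1 ji.2).coeffs
  let R₁ : FPModelLib.ZIdx A := ⟨Algebra.adjoin ℤ (T : Set A), ⟨T, rfl⟩⟩
  have lift : ∀ Q : MvPolynomial (Fin n) A, Q.coeffs ⊆ T →
      ∃ Q₁ : MvPolynomial (Fin n) R₁.1, MvPolynomial.map (algebraMap R₁.1 A) Q₁ = Q := fun Q hQ =>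
    MvPolynomial.mem_range_map_iff_coeffs_subset.2 fun x hx => ⟨⟨x, Algebra.subset_adjoin (hQ hx)⟩, rfl⟩
  choose F₁ hF₁ using fun l => lift (F l)
    ((Finset.subset_biUnion_of_mem (fun l => (F l).coeffs) (Finset.mem_univ l)).trans Finset.subset_union_left)
  choose P₁ hP₁ using fun ji : Fin a × Fin b => lift (P ji.1 ji.2)
    ((Finset.subset_biUnion_of_mem (fun ji : Fin a × Fin b => (P ji.1 ji.2).coeffs) (Finset.mem_univ ji)).trans
      Finset.subset_union_right)
  haveI : Algebra.FiniteType ℤ R₁.1 := FPModelLib.finiteType_zSys A (Opposite.op R₁)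
  haveI : IsNoetherianRing R₁.1 := Algebra.FiniteType.isNoetherianRing ℤ _
  obtain ⟨C₀, a₀, ι, M₁, h1, h2, h3, h4, h5⟩ := of_lift A R₁.1 F₁ F (funext hF₁) M e v hv
    (fun j i => P₁ (j, i)) fun j i => (congrArg _ (hP₁ (j, i))).trans (hP j i)
  exact ⟨Opposite.op R₁, C₀, a₀, ι, M₁, h1, h2, h3, h4, h5⟩

end Groth.Agent.NApproxMod
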