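import Groth.Agent.NApproxMod.Basic
import Groth.Agent.FPApproxLib.Main

/-!
# Noetherian models of finitely presented modules on affine schemes, scheme form
-/

set_option autoImplicit false
set_option linter.style.haveILetI false
set_option backward.isDefEq.respectTransparency false
set_option backward.isDefEq.respectTransparency.types false
set_option maxHeartbeats 1000000
set_option synthInstance.maxHeartbeats 100000

universe u

open CategoryTheory CategoryTheory.Limits AlgebraicGeometry Opposite Groth.Agent.CILib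

noncomputable section

namespace Groth.Agent.NApproxMod

/-- A quasi-coherent module on a spectrum is the tilde of its global sections. -/
def tildeΓIso {R : CommRingCat.{u}} (F : (Spec R).Modules) [Coh.IsQCoh F] :
    tilde ((moduleSpecΓFunctor (R := R)).obj F) ≅ F :=
  haveI : IsIso F.fromTildeΓ := Scheme.Modules.isIso_fromTildeΓ_of_isQuasicoherent F
  asIso F.fromTildeΓ

/-- Global sections of a finitely presented module on a spectrum. -/
theorem finitePresentation_moduleSpecΓ {R : CommRingCat.{u}} (F : (Spec R).Modules) [Coh.IsQCoh F]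
    (hF : CohB1.IsFP F) : Module.FinitePresentation R ((moduleSpecΓFunctor (R := R)).obj F) := by
  haveI : IsIso F.fromTildeΓ := Scheme.Modules.isIso_fromTildeΓ_of_isQuasicoherent F
  haveI : Coh.IsQCoh (tilde ((moduleSpecΓFunctor (R := R)).obj F)) :=
    inferInstanceAs ((tilde ((moduleSpecΓFunctor (R := R)).obj F)).IsQuasicoherent)
  refine (TildeFinLib.isFP_tilde_iff _).1 (FPApproxLib.isFP_of_fpOn fun x _ => ⟨⊤, isAffineOpen_top _, trivial, le_rfl, ?_⟩)
  exact FPApproxLib.fp_of_bijective' F.fromTildeΓ (ConcreteCategory.bijective_of_isIso (F.fromTildeΓ.app ⊤))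
    (QCohLib.finitePresentation_sections F hF (isAffineOpen_top _))

/-- Transport an identification of a pullback along an isomorphism. -/
def pullbackTransIso {X Y Z : Scheme.{u}} (e : X ≅ Y) (q : Y ⟶ Z) (F : X.Modules) {F₀ : Z.Modules}
    (ψ : (Scheme.Modules.pullback q).obj F₀ ≅ (Scheme.Modules.pullback e.inv).obj F) :
    (Scheme.Modules.pullback (e.hom ≫ q)).obj F₀ ≅ F :=
  (Scheme.Modules.pullbackComp e.hom q).symm.app _ ≪≫ (Scheme.Modules.pullback e.hom).mapIso ψ ≪≫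
    (Scheme.Modules.pullbackComp e.hom e.inv ≪≫ Scheme.Modules.pullbackCongr e.hom_inv_id ≪≫
      Scheme.Modules.pullbackId X).app F

/-- The model of a module on the spectrum of a finitely presented algebra. -/
theorem exists_spec_model (A B : CommRingCat.{u}) (φ : A ⟶ B) (hφ : φ.hom.FinitePresentation)
    (F : (Spec B).Modules) [Coh.IsQCoh F] (hF : CohB1.IsFP F) :
    ∃ (i : (FPModelLib.ZIdx A)ᵒᵖ) (C₀ : CommRingCat.{u}) (a : Spec C₀ ⟶ (FPModelLib.zSys A).obj i)
      (q : Spec B ⟶ Spec C₀) (F₀ : (Spec C₀).Modules),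
      LocallyOfFinitePresentation a ∧ IsPullback q (Spec.map φ) a ((FPModelLib.zCone A).π.app i) ∧
      Coh.IsCoh F₀ ∧ CohB1.IsFP F₀ ∧ Nonempty ((Scheme.Modules.pullback q).obj F₀ ≅ F) := by
  classical
  letI : Algebra A B := φ.hom.toAlgebra
  haveI : Algebra.FinitePresentation A B := hφ
  obtain ⟨n, p, hp, hk⟩ := Algebra.FinitePresentation.out (R := A) (A := B)
  obtain ⟨c, G, hG⟩ := Submodule.fg_iff_exists_fin_generating_family.1 hk
  let E : Synt.RelGCIRing A n c G ≃ₐ[A] B :=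
    (Ideal.quotientEquivAlgOfEq A hG).trans (Ideal.quotientKerAlgEquivOfSurjective hp)
  let ε : CommRingCat.of (Synt.RelGCIRing A n c G) ≅ B := E.toRingEquiv.toCommRingCatIso
  have he : Spec.map ε.hom ≫ Spec.map (CommRingCat.ofHom (algebraMap A (Synt.RelGCIRing A n c G))) =
      Spec.map φ := by
    rw [← Spec.map_comp]
    exact congrArg Spec.map (CommRingCat.hom_ext (RingHom.ext fun r => E.commutes r))
  let e : Spec B ≅ Spec (CommRingCat.of (Synt.RelGCIRing A n c G)) := asIso (Spec.map ε.hom)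
  let F' := (Scheme.Modules.pullback e.inv).obj F
  haveI : Coh.IsQCoh F' := PullbackMod.isQCoh_pullback _ F
  have hF' : CohB1.IsFP F' := PullbackMod.isFP_pullback _ F hF
  haveI := finitePresentation_moduleSpecΓ F' hF'
  obtain ⟨i, C₀, a, ι, M₁, hN, ha, hfin, hsq, ⟨ψ⟩⟩ := exists_algebraic_model A G
    ((moduleSpecΓFunctor (R := CommRingCat.of (Synt.RelGCIRing A n c G))).obj F')

  haveI := hN
  haveI := hfin
  refine ⟨i, C₀, a, e.hom ≫ Spec.map ι, tilde M₁, ha, ?_, Groth.Agent.S2720.isCoh_tilde' M₁,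
    (TildeFinLib.isFP_tilde_iff M₁).2 (Module.finitePresentation_of_finite _ _), ?_⟩
  · exact hsq.of_iso e.symm (Iso.refl _) (Iso.refl _) (Iso.refl _) (by simp) (by
      rw [Iso.refl_hom, Category.comp_id, Iso.symm_hom, Iso.eq_inv_comp]; exact he) (by simp) (by simp)
  · exact ⟨pullbackTransIso e (Spec.map ι) F
      ((TildePullback.tildePullbackIso ι).app M₁ ≪≫
        (tilde.functor (CommRingCat.of (Synt.RelGCIRing A n c G))).mapIso ψ ≪≫
        tildeΓIso (R := CommRingCat.of (Synt.RelGCIRing A n c G)) F')⟩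

variable {X S : Scheme.{u}} (f : X ⟶ S) [IsAffine X] [IsAffine S] [LocallyOfFinitePresentation f]

/-- A finitely presented module on an affine morphism of finite presentation has a model. -/
theorem exists_scheme_model (F : X.Modules) [Coh.IsQCoh F] (hF : CohB1.IsFP F) :
    ∃ (i : (FPModelLib.ZIdx Γ(S, ⊤))ᵒᵖ) (X₀ : Scheme.{u}) (a : X₀ ⟶ (FPModelLib.zSys Γ(S, ⊤)).obj i)
      (q : X ⟶ X₀) (F₀ : X₀.Modules),
      IsAffine X₀ ∧ LocallyOfFinitePresentation a ∧ IsPullback q f a (FPModelLib.zπ S i) ∧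
      Coh.IsCoh F₀ ∧ CohB1.IsFP F₀ ∧ Nonempty ((Scheme.Modules.pullback q).obj F₀ ≅ F) := by
  haveI : Coh.IsQCoh ((Scheme.Modules.pullback X.isoSpec.inv).obj F) := PullbackMod.isQCoh_pullback _ F
  obtain ⟨i, C₀, a, q, F₀, ha, hsq, hcoh, hfp₀, ⟨φ⟩⟩ := exists_spec_model Γ(S, ⊤) Γ(X, ⊤) f.appTop
    ((HasRingHomProperty.iff_of_isAffine (P := @LocallyOfFinitePresentation)).1 inferInstance)
    ((Scheme.Modules.pullback X.isoSpec.inv).obj F) (PullbackMod.isFP_pullback _ F hF)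
  refine ⟨i, Spec C₀, a, X.isoSpec.hom ≫ q, F₀, inferInstanceAs (IsAffine (Spec _)), ha, ?_, hcoh, hfp₀,
    ⟨pullbackTransIso X.isoSpec q F φ⟩⟩
  refine hsq.of_iso X.isoSpec.symm (Iso.refl _) S.isoSpec.symm (Iso.refl _) (by simp) ?_ (by simp) ?_
  · simp only [Iso.symm_hom, Scheme.isoSpec_inv_naturality]
  · simp only [Iso.symm_hom, Iso.refl_hom, Category.comp_id, FPModelLib.zπ, Iso.inv_hom_id_assoc]

/-- The flat version. -/
theorem exists_flat_model (F : X.Modules) [Coh.IsQCoh F] (hF : CohB1.IsFP F) (hfl : FlatMod.IsFlatOver f F) :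
    ∃ (X₀ S₀ : Scheme.{u}) (f₀ : X₀ ⟶ S₀) (g : S ⟶ S₀) (g' : X ⟶ X₀), IsAffine X₀ ∧ IsAffine S₀ ∧
      IsPullback g' f f₀ g ∧ Algebra.FiniteType ℤ Γ(S₀, ⊤) ∧ LocallyOfFiniteType f₀ ∧
      ∃ F₀ : X₀.Modules, Coh.IsCoh F₀ ∧ FlatMod.IsFlatOver f₀ F₀ ∧
        Nonempty ((Scheme.Modules.pullback g').obj F₀ ≅ F) := by
  obtain ⟨i, X₀, a, q, F₀, hX₀, ha, hsq, hcoh, hfp₀, ⟨φ⟩⟩ := exists_scheme_model f F hF
  haveI : Coh.IsQCoh F₀ := hcoh.1
  let D := FPModelLib.zSys Γ(S, ⊤)
  let c := FPModelLib.zCone Γ(S, ⊤)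
  let f' : X ⟶ c.pt := f ≫ S.isoSpec.hom
  have hY : IsPullback (c.π.app i) (𝟙 c.pt) (𝟙 (D.obj i)) (c.π.app i) := IsPullback.id_vert _
  have hX : IsPullback q f' a (c.π.app i) := FPModelLib.isPullback_cone f hsq
  have hfl' : FlatMod.IsFlatOver f' ((Scheme.Modules.pullback q).obj F₀) := fun x => by
    have hiso : IsPullback (𝟙 X) f' f S.isoSpec.inv := IsPullback.of_horiz_isIso ⟨by simp [f']⟩
    refine FlatStage.isFlatOverAt_of_square hiso q (Category.id_comp q) F₀ x ?_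
    exact PullbackMod.isFlatOverAt_of_iso φ.symm f _ (hfl _)
  obtain ⟨k, hk⟩ := FlatStage.exists_isFlatOver D c i a (𝟙 (D.obj i)) hY hX (FPModelLib.isLimitZCone _) F₀ hfp₀ hfl'
  let S₁ := (AffLim.baseChange D i (𝟙 (D.obj i))).obj k
  let eS : S₁ ≅ D.obj k.left := asIso (pullback.snd (𝟙 (D.obj i)) (D.map k.hom))
  let a₁ := (AffLim.baseChangeMap D i a (𝟙 (D.obj i))).app k
  haveI : IsAffine (D.obj k.left) := FPModelLib.isAffine_zSys _ _
  haveI : IsAffine S₁ := .of_isIso eS.hom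
  have ha₁ : IsPullback _ a₁ a _ := AffLim.isPullback_baseChangeMap D i a (𝟙 (D.obj i)) k
  haveI : IsAffine (D.obj i) := FPModelLib.isAffine_zSys _ _
  haveI : IsAffineHom a₁ := MorphismProperty.of_isPullback ha₁ (inferInstance : IsAffineHom a)
  refine ⟨_, S₁, a₁, S.isoSpec.hom ≫ FlatStage.vMap D c i (𝟙 (D.obj i)) hY k,
    FlatStage.vMap D c i (a ≫ 𝟙 (D.obj i)) (hX.paste_vert hY) k, isAffine_of_isAffineHom a₁, inferInstance, ?_, ?_,
    MorphismProperty.of_isPullback ha₁ (inferInstance : LocallyOfFiniteType a),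
    (Scheme.Modules.pullback (pullback.fst (a ≫ 𝟙 (D.obj i)) (D.map k.hom))).obj F₀,
    PullbackMod.isCoh_pullback _ F₀ hcoh, hk, ?_⟩
  · refine (FlatStage.isPullback_vMap D c i a (𝟙 (D.obj i)) hY hX k).of_iso (Iso.refl _) (Iso.refl _)
      S.isoSpec.symm (Iso.refl _) (by simp) ?_ (by simp [a₁]) (by simp)
    simp only [Iso.refl_hom, Category.id_comp, f', Iso.symm_hom, Category.assoc, Iso.hom_inv_id, Category.comp_id]
  · let e : Γ(D.obj k.left, ⊤) ≃+* Γ(S₁, ⊤) := ((Scheme.Γ.mapIso eS.op)).commRingCatIsoToRingEquiv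
    haveI : Algebra.FiniteType ℤ Γ(D.obj k.left, ⊤) := FPModelLib.finiteType_Γ_zSys _ k.left
    exact Algebra.FiniteType.of_surjective (R := ℤ) e.toRingHom.toIntAlgHom e.surjective
  · exact ⟨(Scheme.Modules.pullbackComp _ _ ≪≫ Scheme.Modules.pullbackCongr
      (FlatStage.vMap_fst D c i (a ≫ 𝟙 (D.obj i)) (hX.paste_vert hY) k)).app F₀ ≪≫ φ⟩

end Groth.Agent.NApproxMod
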